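import Mathlib
import Cfsg.Agent.Lib.Suzuki.Field

/-!
Torus-invariant biadditive maps on the Suzuki field are trivial.
-/

set_option autoImplicit false

namespace CfsgLib.SuzukiMultiplier

open CfsgLib.Suzuki Polynomial

variable {F : Type*} [Field F] [Fintype F] {m : ℕ}

/-- A biadditive map with `β(k a, μ k c) = β(a, c)` vanishes once `x ↦ (μ x)⁻¹` is not additive. -/
theorem biadd_eq_one (h : SzHyp F m) {M : Type*} [CommGroup M] (β : F → F → M) (μ : F → F)
    (hl : ∀ a a' c, β (a + a') c = β a c * β a' c) (hr : ∀ a c c', β a (c + c') = β a c * β a c')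
    (hinv : ∀ k, k ≠ 0 → ∀ a c, β (k * a) (μ k * c) = β a c) {x : F} (hx0 : x ≠ 0) (hx1 : x ≠ 1)
    (hμ0 : μ x ≠ 0) (hμ1 : μ (1 + x) ≠ 0) (hx : μ (1 + x) + μ x + μ (1 + x) * μ x ≠ 0) (a c : F) :
    β a c = 1 := by
  have h0 : ∀ a, β a 0 = 1 := fun a => by
    have := hr a 0 0
    rw [add_zero] at this
    exact left_eq_mul.1 this
  have hmove : ∀ k, k ≠ 0 → μ k ≠ 0 → ∀ a c, β (k * a) c = β a ((μ k)⁻¹ * c) := fun k hk hμ a c => by
    rw [← hinv k hk a ((μ k)⁻¹ * c), mul_inv_cancel_left₀ hμ]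
  have hx1' : (1 : F) + x ≠ 0 := fun e => hx1 (h.eq_of_add_eq_zero e).symm
  set d := (μ (1 + x))⁻¹ + 1 + (μ x)⁻¹ with hd
  have hd0 : d ≠ 0 := by
    intro e
    apply hx
    have h2 : d * (μ (1 + x) * μ x) = μ (1 + x) + μ x + μ (1 + x) * μ x := by
      rw [hd]
      field_simp
      ring
    rw [← h2, e, zero_mul]
  have hkey : ∀ a c, β a (d * c) = 1 := by
    intro a c
    have e1 := hmove (1 + x) hx1' hμ1 a c
    rw [add_mul, one_mul, hl, hmove x hx0 hμ0] at e1
    have e2 : β a ((1 + (μ x)⁻¹) * c) = β a ((μ (1 + x))⁻¹ * c) := by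
      rw [← e1, add_mul, one_mul, hr]
    rw [hd, add_assoc, add_mul, hr, e2, ← hr, h.add_self, h0]
  have := hkey a (d⁻¹ * c)
  rwa [mul_inv_cancel_left₀ hd0] at this

theorem eq_one_weight_one (h : SzHyp F m) {M : Type*} [CommGroup M] (β : F → F → M)
    (hl : ∀ a a' c, β (a + a') c = β a c * β a' c) (hr : ∀ a c c', β a (c + c') = β a c * β a c')
    (hinv : ∀ k, k ≠ 0 → ∀ a c, β (k * a) (k * c) = β a c) (a c : F) : β a c = 1 := by
  classical
  have hroots : (X ^ 2 + X + 1 : F[X]).roots.toFinset.card ≤ 2 :=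
    (Multiset.toFinset_card_le _).trans ((Polynomial.card_roots' _).trans (by compute_degree))
  obtain ⟨x, -, hx⟩ := Finset.exists_mem_notMem_of_card_lt_card
    (s := {0, 1} ∪ (X ^ 2 + X + 1 : F[X]).roots.toFinset) (t := Finset.univ) (by
      have := h.four_lt_card
      have := Finset.card_union_le ({0, 1} : Finset F) (X ^ 2 + X + 1 : F[X]).roots.toFinset
      have := Finset.card_le_two (a := (0 : F)) (b := 1)
      rw [Finset.card_univ]
      omega)
  simp only [Finset.mem_union, Finset.mem_insert, Finset.mem_singleton, Multiset.mem_toFinset,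
    not_or] at hx
  have hne : (X ^ 2 + X + 1 : F[X]) ≠ 0 := fun e => by simpa using congrArg (fun p => p.eval 0) e
  refine biadd_eq_one h β id hl hr hinv hx.1.1 hx.1.2 hx.1.1
    (fun e => hx.1.2 (h.eq_of_add_eq_zero e).symm) (fun e => hx.2 ?_) a c
  rw [mem_roots hne, IsRoot.def]
  simp only [id, eval_add, eval_pow, eval_X, eval_one] at e ⊢
  linear_combination e - x * h.two_zero

theorem eq_one_weight_sig (h : SzHyp F m) (hm : 2 ≤ m) {M : Type*} [CommGroup M] (β : F → F → M)
    (hl : ∀ a a' c, β (a + a') c = β a c * β a' c) (hr : ∀ a c c', β a (c + c') = β a c * β a c')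
    (hinv : ∀ k, k ≠ 0 → ∀ a c, β (k * a) (k * sig m k * c) = β a c) (a c : F) : β a c = 1 := by
  classical
  set θ := 2 ^ (m + 1) with hθ
  have hθ2 : 2 ≤ θ := Nat.le_self_pow (by omega) 2
  let p : F[X] :=
    1 + X + X ^ θ + X ^ (θ + 1) + X ^ (θ + 2) + X ^ (2 * θ + 1) + X ^ (2 * θ + 2)
  have hdeg : p.natDegree ≤ 2 * θ + 2 := by
    repeat' apply natDegree_add_le_of_degree_le
    all_goals simp
    all_goals omega
  have hne : p ≠ 0 := fun e => by
    have : p.eval 0 = 1 := by simp [p, show θ ≠ 0 by omega]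
    simp [e] at this
  obtain ⟨x, -, hx⟩ := Finset.exists_mem_notMem_of_card_lt_card
    (s := {0, 1} ∪ p.roots.toFinset) (t := Finset.univ) (by
      have := Finset.card_union_le ({0, 1} : Finset F) p.roots.toFinset
      have := Finset.card_le_two (a := (0 : F)) (b := 1)
      have := (Multiset.toFinset_card_le _).trans ((Polynomial.card_roots' p).trans hdeg)
      rw [Finset.card_univ, h.card]
      have h8 : 2 ^ (m + 1) * 4 ≤ 2 ^ (2 * m + 1) := by
        rw [show (4 : ℕ) = 2 ^ 2 by norm_num, ← pow_add]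
        exact Nat.pow_le_pow_right (by norm_num) (by omega)
      have h8' : 8 ≤ θ := by
        rw [hθ, show (8 : ℕ) = 2 ^ 3 by norm_num]
        exact Nat.pow_le_pow_right (by norm_num) (by omega)
      omega)
  simp only [Finset.mem_union, Finset.mem_insert, Finset.mem_singleton, Multiset.mem_toFinset,
    not_or] at hx
  have hμ : ∀ z : F, z ≠ 0 → z * sig m z ≠ 0 := fun z hz =>
    mul_ne_zero hz fun e => hz (sig_eq_zero.1 e)
  refine biadd_eq_one h β (fun k => k * sig m k) hl hr hinv hx.1.1 hx.1.2 (hμ _ hx.1.1)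
    (hμ _ fun e => hx.1.2 (h.eq_of_add_eq_zero e).symm) (fun e => hx.2 ?_) a c
  rw [mem_roots hne, IsRoot.def]
  simp only [h.sig_add, sig_one] at e
  simp only [p, eval_add, eval_pow, eval_X, eval_one]
  have hs : x ^ θ = sig m x := rfl
  rw [pow_add, pow_add, pow_add, pow_add, two_mul, pow_add, hs]
  linear_combination e - (x * sig m x) * h.two_zero

end CfsgLib.SuzukiMultiplier
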