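import Cfsg.Agent.Lib.SuzukiMultiplier.Forms
import Cfsg.Agent.Lib.SuzukiMatrix.Bridge
import Cfsg.Agent.Lib.Suzuki.Sylow
import Cfsg.Agent.Lib.Schur.Trivial

/-!
The Schur multiplier of `Sz(q)`, `q ≥ 32`, is trivial.
-/

set_option autoImplicit false
set_option linter.style.haveILetI false

namespace CfsgLib.SuzukiMultiplier

open CfsgLib.Suzuki Subgroup
open scoped commutatorElement IsMulCommutative

variable {F : Type*} [Field F] [Fintype F] {m : ℕ}

theorem comm_mul_of_central {K : Type*} [Group K] {A B C : K}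
    (h : ⁅B, C⁆ ∈ center K) : ⁅A * B, C⁆ = ⁅A, C⁆ * ⁅B, C⁆ := by
  have e : ⁅A * B, C⁆ = (A * ⁅B, C⁆ * A⁻¹) * ⁅A, C⁆ := by
    simp only [commutatorElement_def]; group
  rw [e, mem_center_iff.1 h A, mul_inv_cancel_right, mem_center_iff.1 h]

theorem sig_mul_self_surjective (h : SzHyp F m) : Function.Surjective fun c : F => sig m c * c := by
  refine Finite.injective_iff_surjective.1 fun c d e => ?_
  by_cases hd : d = 0
  · subst hd
    rw [mul_zero] at e
    rcases mul_eq_zero.1 e with e | e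
    exacts [sig_eq_zero.1 e, e]
  · have hne : sig m d ≠ 0 := fun e => hd (sig_eq_zero.1 e)
    have : c / d * sig m (c / d) = 1 := by
      rw [sig_div]
      field_simp
      linear_combination e
    exact (div_eq_one_iff_eq hd).1 (h.eq_one_of_mul_sig this)

theorem two_part (h : SzHyp F m) (hm : 2 ≤ m) {Γ : Type*} [Group Γ] [Finite Γ]
    (σ : Γ →* Cfsg.Sz F m) (hs : Function.Surjective σ) (hc : σ.ker ≤ center Γ)
    (hd : σ.ker ≤ _root_.commutator Γ) : ¬ 2 ∣ Nat.card σ.ker := by
  classical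
  haveI : Fact (Nat.Prime 2) := ⟨Nat.prime_two⟩
  haveI : Finite (Cfsg.Sz F m) := Finite.of_surjective σ hs
  choose L hL using fun p : F × F => hs (tS h p.1 p.2)
  have hL' : ∀ a b, σ (L (a, b)) = tS h a b := fun a b => hL (a, b)
  choose T hT using fun k : Fˣ => hs (dS h k)
  have tcomm : ∀ a b, tS h a 0 * tS h 0 b = tS h 0 b * tS h a 0 := fun a b => by
    rw [tS_mul, tS_mul, sig_zero]; simp
  have hconj : ∀ (k : Fˣ) a b,
      σ (T k) * σ (L (a, b)) = σ (L ((k : F) * a, k * sig m (k : F) * b)) * σ (T k) := fun k a b => by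
    rw [hT, hL', hL', ← dS_conj, inv_mul_cancel_right]
  -- lifts of the centre commute with lifts of the Sylow subgroup
  have hc1 : ∀ a b, L (a, 0) * L (0, b) = L (0, b) * L (a, 0) := by
    intro a b
    rw [← commutatorElement_eq_one_iff_mul_comm]
    have hmem : ∀ a b, ⁅L (a, 0), L (0, b)⁆ ∈ center Γ := fun a b =>
      SchurTrivial.mem_center_comm hc (by rw [hL', hL', tcomm])
    let β : F → F → center Γ := fun a b => ⟨_, hmem a b⟩
    have hβ := eq_one_weight_sig h hm β ?_ ?_ ?_ a b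
    · exact congrArg Subtype.val hβ
    · intro a a' c
      apply Subtype.ext
      show ⁅L (a + a', 0), L (0, c)⁆ = ⁅L (a, 0), L (0, c)⁆ * ⁅L (a', 0), L (0, c)⁆
      have e : σ (L (a + a', 0)) = σ (L (a, 0) * L (a', 0) * L (0, sig m a * a')) := by
        rw [map_mul, map_mul, hL', hL', hL', hL', tS_mul, tS_mul]
        simp [h.add_self]
      rw [SchurTrivial.comm_congr hc e rfl, comm_mul_of_central (SchurTrivial.mem_center_comm hc ?_),
        comm_mul_of_central (hmem a' c), SchurTrivial.comm_congr hc rfl (rfl : σ (L (0, c)) = _)]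
      · have h0 : ⁅L (0, sig m a * a'), L (0, c)⁆ = 1 := by
          obtain ⟨e, he⟩ := sig_mul_self_surjective h (sig m a * a')
          replace he : sig m e * e = sig m a * a' := he
          rw [SchurTrivial.comm_congr hc (A' := L (e, 0) * L (e, 0))
            (by rw [map_mul, hL', hL', tS_sq, ← he]) rfl, comm_mul_of_central (hmem e c)]
          rw [← pow_two]
          have e2 : ⁅L (e, 0), L (0, c)⁆ * ⁅L (e, 0), L (0, c)⁆ = 1 := by
            rw [← SchurTrivial.comm_mul_right hc (by rw [hL', hL', tcomm]),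
              SchurTrivial.comm_congr hc (A' := L (e, 0)) (B' := (1 : Γ)) rfl
                (by rw [map_mul, map_one, hL', tS_mul, sig_zero]; simp [h.add_self, tS_zero]),
              commutatorElement_one_right]
          rw [pow_two, e2]
        rw [h0, mul_one]
      · rw [hL', hL', tS_mul, tS_mul, sig_zero]; simp [add_comm]
    · intro a c c'
      apply Subtype.ext
      show ⁅L (a, 0), L (0, c + c')⁆ = ⁅L (a, 0), L (0, c)⁆ * ⁅L (a, 0), L (0, c')⁆
      rw [← SchurTrivial.comm_mul_right hc (by rw [hL', hL', tcomm])]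
      exact SchurTrivial.comm_congr hc rfl (by rw [map_mul, hL', hL', hL', tS_mul, sig_zero]; simp)
    · intro k hk a c
      apply Subtype.ext
      show ⁅L (k * a, 0), L (0, k * sig m k * c)⁆ = ⁅L (a, 0), L (0, c)⁆
      refine SchurTrivial.comm_conj hc (T := T (Units.mk0 k hk)) (by rw [hL', hL', tcomm]) ?_ ?_
      · simpa using hconj (Units.mk0 k hk) a 0
      · simpa using hconj (Units.mk0 k hk) 0 c
  let R : Subgroup Γ := (tGroup h).comap σ
  have hcomm0 : ∀ X Y : Γ, ∀ a b, σ X = tS h a 0 → σ Y = tS h 0 b → X * Y = Y * X := fun X Y a b ha hb => by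
    rw [← commutatorElement_eq_one_iff_mul_comm,
      SchurTrivial.comm_congr hc (A' := L (a, 0)) (B' := L (0, b)) (by rw [ha, hL']) (by rw [hb, hL']),
      commutatorElement_eq_one_iff_mul_comm]
    exact hc1 a b
  have hcentre : ∀ Y : R, ∀ b, σ (Y : Γ) = tS h 0 b → Y ∈ center R := by
    intro Y b hY
    rw [mem_center_iff]
    rintro ⟨g, c, d, hg⟩
    apply Subtype.ext
    show g * (Y : Γ) = Y * g
    obtain ⟨e, he⟩ := sig_mul_self_surjective h d
    replace he : sig m e * e = d := he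
    have hg' : σ g = σ (L (c, 0) * (L (e, 0) * L (e, 0))) := by
      rw [hg, map_mul, map_mul, hL', hL', tS_sq, he, tS_mul]
      simp
    have hz : (L (c, 0) * (L (e, 0) * L (e, 0)))⁻¹ * g ∈ center Γ :=
      hc (by rw [MonoidHom.mem_ker, map_mul, map_inv, hg', inv_mul_cancel])
    have key : Commute (L (c, 0) * (L (e, 0) * L (e, 0)) *
        ((L (c, 0) * (L (e, 0) * L (e, 0)))⁻¹ * g)) (Y : Γ) :=
      ((Commute.mul_left (hcomm0 _ _ c b (hL' c 0) hY)
        (Commute.mul_left (hcomm0 _ _ e b (hL' e 0) hY) (hcomm0 _ _ e b (hL' e 0) hY))).mul_left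
        (mem_center_iff.1 hz (Y : Γ)).symm)
    rw [mul_inv_cancel_left] at key
    exact key.eq
  let M : F → R := fun a => ⟨L (a, 0), show σ _ ∈ tGroup h by rw [hL']; exact tS_mem_tGroup h a 0⟩
  have hcomm : ∀ X Y : R, ⁅X, Y⁆ ∈ center R := by
    intro X Y
    obtain ⟨a, b, hX⟩ : σ (X : Γ) ∈ tGroup h := X.2
    obtain ⟨c, d, hY⟩ : σ (Y : Γ) ∈ tGroup h := Y.2
    refine hcentre _ (sig m a * c + sig m c * a) ?_
    show σ ⁅(X : Γ), (Y : Γ)⁆ = _
    simp only [commutatorElement_def, map_mul, map_inv, hX, hY, tS_inv, tS_mul]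
    congr 1
    · linear_combination (a + c) * h.two_zero
    · simp only [h.sig_add]
      linear_combination (b + d + sig m c * c + sig m a * a + sig m a * c) * h.two_zero
  let ω : F → F → center R := fun a c => ⟨⁅M a, M c⁆, hcomm _ _⟩
  have hred : ∀ (X : R) a b, σ (X : Γ) = tS h a b → (M a)⁻¹ * X ∈ center R := fun X a b hX => by
    refine hcentre _ (b + sig m a * a + sig m a * a) ?_
    show σ ((L (a, 0))⁻¹ * (X : Γ)) = _
    rw [map_mul, map_inv, hL', hX, tS_inv, tS_mul, h.add_self]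
    congr 1
    linear_combination (0 : F) * h.two_zero
  have hval : ∀ (X Y : R) a b c d, σ (X : Γ) = tS h a b → σ (Y : Γ) = tS h c d →
      ⁅X, Y⁆ = ω a c := fun X Y a b c d hX hY => by
    conv_lhs => rw [show X = M a * ((M a)⁻¹ * X) by group, show Y = M c * ((M c)⁻¹ * Y) by group]
    exact Schur.commutatorElement_mul_center (hred X a b hX) (hred Y c d hY)
  have hωl : ∀ a a' c, ω (a + a') c = ω a c * ω a' c := fun a a' c => by
    apply Subtype.ext
    show (ω (a + a') c : R) = (⁅M a, M c⁆ : R) * ⁅M a', M c⁆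
    rw [← comm_mul_of_central (hcomm _ _)]
    refine (hval (M a * M a') (M c) _ (sig m a * a') _ 0 ?_ (hL' c 0)).symm
    show σ (L (a, 0) * L (a', 0)) = _
    rw [map_mul, hL', hL', tS_mul]
    simp
  have hωr : ∀ a c c', ω a (c + c') = ω a c * ω a c' := fun a c c' => by
    apply Subtype.ext
    show (ω a (c + c') : R) = (⁅M a, M c⁆ : R) * ⁅M a, M c'⁆
    rw [← hval (M a) (M c * M c') a 0 _ (sig m c * c') (hL' a 0) (by
      show σ (L (c, 0) * L (c', 0)) = _
      rw [map_mul, hL', hL', tS_mul]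
      simp)]
    have e : ⁅M a, M c * M c'⁆ = ⁅M a, M c⁆ * (M c * ⁅M a, M c'⁆ * (M c)⁻¹) := by
      simp only [commutatorElement_def]; group
    rw [e, mem_center_iff.1 (hcomm (M a) (M c')) (M c), mul_inv_cancel_right]
  have hω0 : ∀ a, ω a 0 = 1 := fun a => by
    have := hωr a 0 0
    rw [add_zero] at this
    exact left_eq_mul.1 this
  have hω2 : ∀ a c, ω a c ^ 2 = 1 := fun a c => by rw [pow_two, ← hωr, h.add_self, hω0]
  have hωconj : ∀ (k : Fˣ) a c,
      ((ω ((k : F) * a) (k * c) : R) : Γ) = T k * ((ω a c : R) : Γ) * (T k)⁻¹ := fun k a c => by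
    show ⁅L ((k : F) * a, 0), L ((k : F) * c, 0)⁆ = T k * ⁅L (a, 0), L (c, 0)⁆ * (T k)⁻¹
    rw [conjugate_commutatorElement]
    exact SchurTrivial.comm_congr hc
      (by rw [map_mul, map_mul, map_inv, hconj k a 0, mul_inv_cancel_right, mul_zero])
      (by rw [map_mul, map_mul, map_inv, hconj k c 0, mul_inv_cancel_right, mul_zero])
  have hξ : ∀ a c, ∏ k : Fˣ, ω ((k : F) * a) (k * c) = 1 := by
    refine eq_one_weight_one h (fun a c => ∏ k : Fˣ, ω ((k : F) * a) (k * c)) ?_ ?_ ?_
    · intro a a' c; simp only [mul_add, hωl, Finset.prod_mul_distrib]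
    · intro a c c'; simp only [mul_add, hωr, Finset.prod_mul_distrib]
    · intro k hk a c
      exact Fintype.prod_equiv (Equiv.mulRight (Units.mk0 k hk)) _ _ fun j => by simp [mul_assoc]
  -- the elements with trivial torus norm
  let S : Subgroup (center R) :=
    { carrier := {z | z ^ 2 = 1 ∧ ∃ z' : Fˣ → center R,
        (∀ k, ((z' k : R) : Γ) = T k * ((z : R) : Γ) * (T k)⁻¹) ∧ ∏ k, z' k = 1}
      one_mem' := ⟨one_pow _, fun _ => 1, fun k => by simp, by simp⟩
      mul_mem' := fun {z w} ⟨hz, z', hz', hz1⟩ ⟨hw, w', hw', hw1⟩ =>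
        ⟨by rw [mul_pow, hz, hw, one_mul], fun k => z' k * w' k, fun k => by
          simp only [Subgroup.coe_mul, hz', hw']; group,
          by rw [Finset.prod_mul_distrib, hz1, hw1, one_mul]⟩
      inv_mem' := fun {z} ⟨hz, z', hz', hz1⟩ =>
        ⟨by rw [inv_pow, hz, inv_one], fun k => (z' k)⁻¹, fun k => by
          simp only [Subgroup.coe_inv, hz']; group,
          by rw [Finset.prod_inv_distrib, hz1, inv_one]⟩ }
  have hder : _root_.commutator R ≤ S.map (center R).subtype := by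
    rw [_root_.commutator_def, Subgroup.commutator_le]
    intro X _ Y _
    obtain ⟨a, b, hX⟩ : σ (X : Γ) ∈ tGroup h := X.2
    obtain ⟨c, d, hY⟩ : σ (Y : Γ) ∈ tGroup h := Y.2
    rw [hval X Y a b c d hX hY]
    exact ⟨ω a c, ⟨hω2 a c, fun k => ω ((k : F) * a) (k * c), fun k => hωconj k a c, hξ a c⟩, rfl⟩
  -- conclude
  obtain ⟨Q, hQ⟩ := (isPGroup_tGroup h).exists_le_sylow
  have hQeq : (Q : Subgroup (Cfsg.Sz F m)) = tGroup h := by
    refine (Subgroup.eq_of_le_of_card_ge hQ ?_).symm
    rw [(sylow_two_structure h Q).1, card_tGroup h, ← pow_mul, mul_comm (2 * m + 1)]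
  obtain ⟨P, hP⟩ := SchurBound.exists_sylow_map_eq σ hs Q
  refine SchurSylow.not_dvd_card_ker σ hc hd P fun y hy hy1 => ?_
  have hPR : (P : Subgroup Γ) ≤ R := fun g hg => by
    show σ g ∈ tGroup h
    rw [← hQeq, ← hP]
    exact mem_map_of_mem σ hg
  have hyR : (Subgroup.inclusion hPR y) ∈ S.map (center R).subtype := by
    apply hder
    have : (_root_.commutator (P : Subgroup Γ)).map (Subgroup.inclusion hPR) ≤ _root_.commutator R := by
      rw [_root_.commutator_def, Subgroup.map_commutator, _root_.commutator_def]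
      exact Subgroup.commutator_mono le_top le_top
    exact this (mem_map_of_mem _ hy)
  obtain ⟨z, ⟨hz2, z', hz', hz1⟩, hzy⟩ := hyR
  have hzΓ : ((z : R) : Γ) = (y : Γ) := congrArg Subtype.val hzy
  have hzc : ∀ k, z' k = z := fun k => by
    apply Subtype.ext; apply Subtype.ext
    rw [hz', mem_center_iff.1 (hc (show σ ((z : R) : Γ) = 1 by rw [hzΓ]; exact hy1)) (T k),
      mul_inv_cancel_right]
  simp only [hzc, Finset.prod_const, Finset.card_univ] at hz1
  obtain ⟨j, hj⟩ : Odd (Fintype.card Fˣ) := by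
    rw [Fintype.card_units, h.card]
    exact Nat.Even.sub_odd Nat.one_le_two_pow ((Nat.even_pow' (by omega)).2 even_two) odd_one
  rw [hj, pow_succ, pow_mul, hz2, one_pow, one_mul] at hz1
  apply Subtype.ext
  rw [← hzΓ, hz1]
  rfl

theorem multiplier (h : SzHyp F m) (hm : 2 ≤ m) :
    Cfsg.HasCyclicSchurMultiplier ↥(Cfsg.Lie.Sz F (2 ^ (m + 1))) 1 := by
  classical
  refine SchurTrivial.hasCyclic_one fun Γ _ _ σ hs hc hd r hr _ => ?_
  haveI := Fact.mk hr
  let τ : Γ →* Cfsg.Sz F m := (SuzukiMatrix.szEquiv h).symm.toMonoidHom.comp σ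
  have hk : τ.ker = σ.ker := by
    ext x
    simp [τ, MonoidHom.mem_ker]
  have hτ : Function.Surjective τ := (SuzukiMatrix.szEquiv h).symm.surjective.comp hs
  rw [← hk] at hc hd ⊢
  by_cases h2 : r = 2
  · subst h2
    exact two_part h hm τ hτ hc hd
  · haveI : Finite (Cfsg.Sz F m) := Finite.of_surjective τ hτ
    let P : Sylow r Γ := default
    haveI : IsCyclic ((P : Subgroup Γ).map τ) := sylow_odd_cyclic h h2 (P.mapSurjective hτ)
    exact SchurSylow.not_dvd_card_ker_of_cyclic τ hc hd P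

end CfsgLib.SuzukiMultiplier
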